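import Cfsg.Agent.Lib.Cores
import Cfsg.Agent.OddHalf.MMOut.Row
import Cfsg.Agent.KFacts.M24Two.Out
import Cfsg.Agent.OddHalf.Small.Mathieu
import Cfsg.Agent.OddHalf.Small.M24Char
import Cfsg.Prelude.Def_CaseTheorems
import Cfsg.Prelude.Def_Spor_Mathieu

/-!
# `M22`, `M24`: automorphisms of odd order centralising a Sylow 2-subgroup
-/

set_option autoImplicit false
open Cfsg

namespace Cfsg.Agent.H657.OneBlk

open Subgroup

/-- the properties of `M22` and `M24` used: characteristic 2 type, squares of automorphisms are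
inner. -/
structure Mat (S : Type*) [Group S] : Prop where
  char2 : IsCharacteristicTwoType S
  sq : ∀ α : MulAut S, ∃ k, α * α = MulAut.conj k

theorem sq_iso {S T : Type*} [Group S] [Group T] (e : S ≃* T)
    (h : ∀ α : MulAut T, ∃ k, α * α = MulAut.conj k) (α : MulAut S) :
    ∃ k, α * α = MulAut.conj k := by
  obtain ⟨k, hk⟩ := h (MulAut.congr e α)
  refine ⟨e.symm k, ?_⟩
  ext x
  have h1 := congrArg (fun β : MulAut T => e.symm (β (e x))) hk
  simpa [MulAut.mul_apply, MulAut.congr, MulAut.conj_apply] using h1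

theorem Mat.m24 {S : Type*} [Group S] (h : Spor.IsoM24 S) : Mat S := by
  refine ⟨OddHalf.Small.M24Char.m24 h, ?_⟩
  obtain ⟨e⟩ := h
  exact sq_iso e fun α => KFacts.M24Two.Out.exists_conj (α * α)

theorem Mat.m22 {S : Type*} [Group S] (h : Spor.IsoM22 S) : Mat S := by
  refine ⟨OddHalf.Small.Mathieu.m22 h, ?_⟩
  obtain ⟨e⟩ := h
  refine sq_iso e fun α => ?_
  by_cases h1 : ∃ k : Spor.M22, α = MulAut.conj k
  · obtain ⟨k, hk⟩ := h1
    exact ⟨k * k, by rw [hk, ← map_mul]⟩
  · push Not at h1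
    obtain ⟨k, hk⟩ := KFacts.MM.GlueK.out α α⁻¹ h1 (fun k hk => h1 k⁻¹ (by
      rw [map_inv, ← hk, inv_inv]))
    exact ⟨k, by rw [← hk, inv_inv]⟩

theorem Mat.trivial {S : Type*} [Group S] [Finite S] (h : Mat S) (hc : center S = ⊥)
    {α : MulAut S} {n : ℕ} (hn : ¬ 2 ∣ n) (hαn : α ^ n = 1) (F : Subgroup S)
    (hF : ∀ s ∈ F, α s = s) (hi : ¬ 2 ∣ F.index) : α = 1 := by
  have : Fact (Nat.Prime 2) := ⟨Nat.prime_two⟩
  obtain ⟨m, hm⟩ : ∃ m, n = 2 * m + 1 := ⟨n / 2, by omega⟩
  obtain ⟨s, hs⟩ := h.sq (α ^ (m + 1))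
  have hα : α = MulAut.conj s := by
    rw [← hs, ← pow_add, show m + 1 + (m + 1) = n + 1 by omega, pow_succ, hαn, one_mul]
  have hsn : s ^ n = 1 := by
    have h1 : s ^ n ∈ center S := by
      rw [mem_center_iff]
      intro g
      have h2 : MulAut.conj (s ^ n) = 1 := by rw [map_pow, ← hα, hαn]
      have h3 := congrArg (fun β : MulAut S => β g) h2
      simp only [MulAut.conj_apply, MulAut.one_apply] at h3
      rw [mul_inv_eq_iff_eq_mul] at h3
      exact h3.symm
    rwa [hc, mem_bot] at h1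
  set C := centralizer ({s} : Set S) with hC
  have hFC : F ≤ C := by
    intro f hf
    have h1 := hF f hf
    rw [hα, MulAut.conj_apply, mul_inv_eq_iff_eq_mul] at h1
    rw [hC, mem_centralizer_singleton_iff]
    exact h1.symm
  have hCi : ¬ 2 ∣ C.index := fun h1 => hi (h1.trans (index_dvd_of_le hFC))
  obtain ⟨P⟩ : Nonempty (Sylow 2 C) := inferInstance
  set Q := (P : Subgroup C).map C.subtype with hQ
  have hQp : IsPGroup 2 Q := P.2.map _
  have hQi : ¬ 2 ∣ Q.index := by
    rw [hQ, index_map_subtype, Nat.prime_two.dvd_mul]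
    rintro (h1 | h1)
    · exact P.not_dvd_index' (index_ne_zero_of_finite) h1
    · exact hCi h1
  have hQC : Q ≤ C := map_subtype_le _
  have hQ1 : Q ≠ ⊥ := by
    intro h1
    apply hQi
    rw [h1, index_bot]
    exact h.char2.1.two_dvd
  have hQ2 := h.char2.2 Q hQp hQ1
  set N := normalizer (Q : Set S) with hN
  have hcN : IsPGroup 2 (Q.subgroupOf N) := hQp.comap_of_injective N.subtype N.subtype_injective
  have hcNi : ¬ 2 ∣ (Q.subgroupOf N).index := by
    intro h1
    apply hQi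
    exact h1.trans (relIndex_dvd_index_of_le le_normalizer)
  have hle : pCore 2 N ≤ Q.subgroupOf N := Lib.Cores.pCore_le_sylow (hcN.toSylow hcNi)
  have hsQ : s ∈ centralizer (Q : Set S) := by
    rw [mem_centralizer_iff]
    intro q hq
    exact mem_centralizer_singleton_iff.1 (hQC hq)
  have hsN : s ∈ N := centralizer_le_normalizer _ hsQ
  have h1 : (⟨s, hsN⟩ : N) ∈ pCore 2 N := by
    apply hQ2
    rw [mem_centralizer_iff]
    intro q hq
    apply Subtype.ext
    exact mem_centralizer_iff.1 hsQ q (mem_subgroupOf.1 (hle hq))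
  obtain ⟨k, hk⟩ := (Lib.Cores.pCore_isPGroup 2) (⟨_, h1⟩ : pCore 2 N)
  have hk' : s ^ (2 ^ k) = 1 := by
    have h2 := congrArg (fun y : pCore 2 N => ((y : N) : S)) hk
    simpa using h2
  have h3 : orderOf s ∣ 2 ^ k := orderOf_dvd_of_pow_eq_one hk'
  have h4 : orderOf s ∣ n := orderOf_dvd_of_pow_eq_one hsn
  have h5 : Nat.Coprime n (2 ^ k) :=
    Nat.Coprime.pow_right k ((Nat.Prime.coprime_iff_not_dvd Nat.prime_two).2 hn).symm
  have h6 : s = 1 := orderOf_eq_one_iff.1 (Nat.eq_one_of_dvd_coprimes h5 h4 h3)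
  rw [hα, h6, map_one]

end Cfsg.Agent.H657.OneBlk
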