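import Cfsg.Agent.H657.OneBlk.Basic
import Cfsg.Agent.H657.OneBlk.Mat
import Cfsg.Agent.TwoFusion.FStarControl
import Cfsg.Agent.SignalizersComponents.CompOrbit
import Cfsg.Agent.SignalizersComponents.FStarNormal
import Cfsg.Agent.SignalizersComponents.LayerBasic
import Cfsg.Agent.S5005
import Cfsg.Agent.S5006

/-!
# Assembly of S5007

`Cfsg.Agent.H657.OneBlk.s5007` : S5007 from S5004 (given as a hypothesis).
-/

set_option autoImplicit false
open Cfsg

namespace Cfsg.Agent.H657.OneBlk

open Cfsg.Agent Cfsg.Agent.Characters.Core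
open Cfsg.Agent.H526.OB
open Cfsg.Agent.SignalizersComponents.Components
open Subgroup
open scoped commutatorElement

universe u v

section

theorem center_quot {Q : Type u} [Group Q] (hq : IsQuasisimple Q) : center (Q ⧸ center Q) = ⊥ := by
  have := hq.1
  have hs := hq.2
  rcases hs.eq_bot_or_eq_top_of_normal (center (Q ⧸ center Q)) inferInstance with h | h
  · exact h
  · exfalso
    have hp : Group.IsPerfect (Q ⧸ center Q) := inferInstance
    have h2 : _root_.commutator (Q ⧸ center Q) = ⊥ := by
      rw [_root_.commutator_eq_bot_iff_center_eq_top, h]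
    rw [hp.commutator_eq_top] at h2
    have h3 : Nontrivial (Q ⧸ center Q) := hs.toNontrivial
    exact absurd h2.symm bot_ne_top

/-- an automorphism of a perfect group trivial modulo the centre is trivial -/
theorem fix_of_perfect {K : Type u} [Group K] (hp : Group.IsPerfect K) (f : MulAut K)
    (h : ∀ k, k⁻¹ * f k ∈ center K) (k : K) : f k = k := by
  have h1 : (⊤ : Subgroup K) ≤ MonoidHom.eqLocus f.toMonoidHom (MonoidHom.id K) := by
    rw [← hp.commutator_eq_top, _root_.commutator_def, commutator_le]
    intro a _ b _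
    show f ⁅a, b⁆ = ⁅a, b⁆
    obtain ⟨z, hz, hza⟩ : ∃ z ∈ center K, f a = a * z := ⟨a⁻¹ * f a, h a, by group⟩
    obtain ⟨w, hw, hwb⟩ : ∃ w ∈ center K, f b = b * w := ⟨b⁻¹ * f b, h b, by group⟩
    rw [map_commutatorElement, hza, hwb, commutatorElement_def, commutatorElement_def]
    have e1 : b * w * z = z * (b * w) := mem_center_iff.1 hz (b * w)
    have e2 : a⁻¹ * w = w * a⁻¹ := mem_center_iff.1 hw a⁻¹
    calc a * z * (b * w) * (a * z)⁻¹ * (b * w)⁻¹
        = a * (z * (b * w)) * z⁻¹ * a⁻¹ * w⁻¹ * b⁻¹ := by group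
      _ = a * b * (w * a⁻¹) * w⁻¹ * b⁻¹ := by rw [← e1]; group
      _ = a * b * a⁻¹ * b⁻¹ := by rw [← e2]; group
  exact h1 (mem_top k)

end

section

variable {G : Type u} [Group G] [Finite G]

theorem relIndex_dvd_of_normal {K N : Subgroup G} (C : Subgroup G) (hKN : K ≤ N)
    (hn : (K.subgroupOf N).Normal) : C.relIndex K ∣ C.relIndex N := by
  set D := C.subgroupOf N with hD
  have e1 : D.relIndex (K.subgroupOf N) = C.relIndex K := relIndex_subgroupOf hKN
  have e2 : D.index = C.relIndex N := rfl
  rw [← e1, ← e2]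
  have h2 : (D ⊓ K.subgroupOf N).relIndex (K.subgroupOf N) * (K.subgroupOf N).index =
    (D ⊓ K.subgroupOf N).index := relIndex_mul_index inf_le_right
  have h3 : (D ⊓ K.subgroupOf N).relIndex D * D.index =
    (D ⊓ K.subgroupOf N).index := relIndex_mul_index inf_le_left
  rw [inf_relIndex_right] at h2
  rw [inf_relIndex_left] at h3
  obtain ⟨c, hc⟩ := relIndex_dvd_index_of_normal (K.subgroupOf N) D
  have h4 : (K.subgroupOf N).relIndex D ≠ 0 := index_ne_zero_of_finite
  refine ⟨c, ?_⟩
  apply Nat.eq_of_mul_eq_mul_left (Nat.pos_of_ne_zero h4)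
  rw [h3, ← h2, hc]
  ring

/-- an element of odd order normalising a component and centralising a subgroup of odd index
centralises it -/
theorem centralizes {K : Subgroup G} (hK : IsQuasisimple K) (hM : Mat (K ⧸ center K)) {x : G}
    (hx : ¬ 2 ∣ orderOf x) (hxK : x ∈ normalizer (K : Set G))
    (hi : ¬ 2 ∣ (centralizer ({x} : Set G)).relIndex K) : K ≤ centralizer ({x} : Set G) := by
  set f : MulAut K := K.normalizerMonoidHom ⟨x, hxK⟩ with hf
  have hfv : ∀ k : K, ((f k : K) : G) = x * k * x⁻¹ := fun k => rfl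
  have hfn : f ^ orderOf x = 1 := by
    rw [hf, ← map_pow]
    have h1 : (⟨x, hxK⟩ : normalizer (K : Set G)) ^ orderOf x = 1 := by
      apply Subtype.ext
      simp [pow_orderOf_eq_one x]
    rw [h1, map_one]
  have he : (center K).map f.toMonoidHom = center K :=
    SignalizersComponents.LayerBasic.map_center_equiv f
  set α : MulAut (K ⧸ center K) := QuotientGroup.congr (center K) (center K) f he with hα
  have hαv : ∀ k : K, α (QuotientGroup.mk k) = QuotientGroup.mk (f k) := fun k => rfl
  have hαp : ∀ (j : ℕ) (k : K), (α ^ j) (QuotientGroup.mk k) = QuotientGroup.mk ((f ^ j) k) := by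
    intro j
    induction j with
    | zero => intro k; simp
    | succ j ih => intro k; rw [pow_succ, MulAut.mul_apply, hαv, ih, pow_succ, MulAut.mul_apply]
  have hαn : α ^ orderOf x = 1 := by
    ext q
    obtain ⟨k, rfl⟩ := QuotientGroup.mk_surjective q
    rw [hαp, hfn, MulAut.one_apply, MulAut.one_apply]
  have h1 : α = 1 := by
    refine hM.trivial (center_quot hK) hx hαn
      (((centralizer ({x} : Set G)).subgroupOf K).map (QuotientGroup.mk' (center K))) ?_ ?_
    · rintro s ⟨k, hk, rfl⟩
      rw [QuotientGroup.mk'_apply, hαv]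
      congr 1
      apply Subtype.ext
      rw [hfv]
      have h2 := mem_centralizer_singleton_iff.1 (mem_subgroupOf.1 hk)
      rw [← h2, mul_inv_cancel_right]
    · intro h2
      exact hi (h2.trans (index_map_dvd _ (QuotientGroup.mk'_surjective _)))
  have h2 : ∀ k : K, k⁻¹ * f k ∈ center K := by
    intro k
    have h3 := hαv k
    rw [h1, MulAut.one_apply] at h3
    exact QuotientGroup.eq.1 h3
  intro k hk
  have h3 := congrArg Subtype.val (fix_of_perfect hK.1 f h2 ⟨k, hk⟩)
  rw [hfv] at h3
  rw [mem_centralizer_singleton_iff]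
  rw [mul_inv_eq_iff_eq_mul] at h3
  exact h3.symm

theorem center_isPGroup (hO : oddCore G = ⊥) {K : Subgroup G} (hK : K.IsSubnormal) :
    IsPGroup 2 (center K) := by
  have : Fact (Nat.Prime 2) := ⟨Nat.prime_two⟩
  have hnil : Group.IsNilpotent (center K) := by
    have hc : IsMulCommutative (center K) := inferInstance
    let _ : CommGroup (center K) :=
      { (inferInstance : Group (center K)) with mul_comm := fun a b => hc.is_comm.comm a b }
    exact CommGroup.isNilpotent
  have h1 : center K ≤ fittingSubgroup K :=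
    Lib.Cores.le_fittingSubgroup inferInstance hnil
  have h2 : (center K).map K.subtype ≤ pCore 2 G :=
    (map_mono h1).trans ((SignalizersComponents.FStarNormal.fitting_map_le_of_subnormal hK).trans
      (SignalizersComponents.CompOrbit.fittingSubgroup_le_pCore hO))
  rintro ⟨z, hz⟩
  obtain ⟨k, hk⟩ := (Lib.Cores.pCore_isPGroup 2) (⟨z, h2 ⟨z, hz, rfl⟩⟩ : pCore 2 G)
  refine ⟨k, ?_⟩
  apply Subtype.ext
  apply Subtype.ext
  have h3 := congrArg Subtype.val hk
  simpa using h3

theorem fitting_isPGroup (hO : oddCore G = ⊥) : IsPGroup 2 (fittingSubgroup G) := by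
  have : Fact (Nat.Prime 2) := ⟨Nat.prime_two⟩
  exact (Lib.Cores.pCore_isPGroup 2).to_le
    (SignalizersComponents.CompOrbit.fittingSubgroup_le_pCore hO)

theorem even_relIndex (hO : oddCore G = ⊥)
    (hM : ∀ K : Subgroup G, IsComponent K → Mat (K ⧸ center K)) {x : G} (hx : ¬ 2 ∣ orderOf x)
    (hx1 : x ≠ 1) : 2 ∣ (centralizer ({x} : Set G)).relIndex (generalizedFittingSubgroup G) := by
  have : Fact (Nat.Prime 2) := ⟨Nat.prime_two⟩
  by_contra hcon
  set N := generalizedFittingSubgroup G with hN
  set C := centralizer ({x} : Set G) with hC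
  have hFN : fittingSubgroup G ≤ N := le_sup_right
  have hLN : layer G ≤ N := le_sup_left
  have hFn : (fittingSubgroup G).Normal := Lib.Cores.fittingSubgroup_normal
  have hFp := fitting_isPGroup hO
  -- the Fitting subgroup
  have hF : fittingSubgroup G ≤ C := by
    have h1 : C.relIndex (fittingSubgroup G) ∣ C.relIndex N :=
      relIndex_dvd_of_normal C hFN inferInstance
    obtain ⟨k, hk⟩ := IsPGroup.iff_card.1 hFp
    have h2 : C.relIndex (fittingSubgroup G) ∣ 2 ^ k := by
      rw [← hk]
      exact relIndex_dvd_card _ _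
    obtain ⟨j, hj, h3⟩ := (Nat.dvd_prime_pow Nat.prime_two).1 h2
    rw [← relIndex_eq_one, h3]
    rcases Nat.eq_zero_or_pos j with h4 | h4
    · rw [h4, pow_zero]
    · exfalso
      apply hcon
      refine dvd_trans ?_ h1
      rw [h3]
      exact dvd_pow_self 2 h4.ne'
  -- the components
  have hK : ∀ K : Subgroup G, IsComponent K → K ≤ C := by
    intro K hK
    have hKL : K ≤ layer G := component_le_layer hK
    have hKn : (K.subgroupOf N).Normal := by
      apply normal_subgroupOf_of_le_normalizer
      refine sup_le (layer_le_normalizer_component hK) ?_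
      refine (SignalizersComponents.LayerBasic.fitting_le_centralizer_layer G).trans ?_
      exact (centralizer_le hKL).trans (centralizer_le_normalizer _)
    have h1 : ¬ 2 ∣ C.relIndex K := fun h =>
      hcon (h.trans (relIndex_dvd_of_normal C (hKL.trans hLN) hKn))
    by_cases hxK : x ∈ normalizer (K : Set G)
    · exact centralizes hK.2 (hM K hK) hx hxK h1
    · exfalso
      apply h1
      set K' := K.map (MulAut.conj x).toMonoidHom with hK'
      have hKc : IsComponent K' := isComponent_conj x hK
      have hne : K' ≠ K := by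
        intro h2
        apply hxK
        rw [mem_normalizer_iff_map_conj_eq]
        exact h2
      have hcc : K' ≤ centralizer (K : Set G) := component_le_centralizer_of_ne hKc hK hne
      have h2 : C.subgroupOf K ≤ center K := by
        intro k hk
        have h3 := mem_centralizer_singleton_iff.1 (mem_subgroupOf.1 hk)
        have h4 : (k : G) ∈ K' := by
          refine ⟨k, k.2, ?_⟩
          show x * k * x⁻¹ = k
          rw [← h3, mul_inv_cancel_right]
        rw [mem_center_iff]
        intro g
        exact Subtype.ext (mem_centralizer_iff.1 (hcc h4) g g.2)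
      have h3 : 2 ∣ (center K).index := by
        have := (hM K hK).char2.1.two_dvd
        exact this
      exact h3.trans (index_dvd_of_le h2)
  have hNC : N ≤ C := sup_le (layer_le_iff.2 hK) hF
  have hxN : x ∈ centralizer (N : Set G) := by
    rw [mem_centralizer_iff]
    intro n hn
    exact mem_centralizer_singleton_iff.1 (hNC hn)
  have hxF : x ∈ fittingSubgroup G := TwoFusion.FStarControl.centralizer_genFitting_le_fitting hxN
  obtain ⟨k, hk⟩ := hFp ⟨x, hxF⟩
  have hk' : x ^ (2 ^ k) = 1 := by
    have h2 := congrArg Subtype.val hk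
    simpa using h2
  have h3 : orderOf x ∣ 2 ^ k := orderOf_dvd_of_pow_eq_one hk'
  have h5 : Nat.Coprime (orderOf x) (2 ^ k) :=
    Nat.Coprime.pow_right k ((Nat.Prime.coprime_iff_not_dvd Nat.prime_two).2 hx).symm
  exact hx1 (orderOf_eq_one_iff.1 (Nat.eq_one_of_dvd_coprimes h5 dvd_rfl h3))

/-- **one block from the components** -/
theorem oneB_of_components {M : Ideal AlgInt} (hM : IsPModular 2 M) (hO : oddCore G = ⊥)
    (hK : ∀ K : Subgroup G, IsComponent K →
      Spor.IsoM22 (K ⧸ center K) ∨ Spor.IsoM24 (K ⧸ center K)) : OneB M G := by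
  have hMat : ∀ K : Subgroup G, IsComponent K → Mat (K ⧸ center K) := fun K h =>
    (hK K h).elim Mat.m22 Mat.m24
  have hZ : ∀ K : Subgroup G, IsComponent K → IsPGroup 2 (center K) := fun K h =>
    center_isPGroup hO h.1
  have hone : ∀ K : Subgroup G, IsComponent K → OneB M K := by
    intro K h
    refine OneB.lift hM (center K) le_rfl (hZ K h) ?_
    rcases hK K h with ⟨⟨e⟩⟩ | ⟨⟨e⟩⟩
    · exact OneB.iso e.symm fun χ => S5005.result M hM (triv _) χ
    · exact OneB.iso e.symm fun χ => S5006.result M hM (triv _) χ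
  have hN : (generalizedFittingSubgroup G).Normal := TwoFusion.FStarControl.genFitting_normal G
  refine OneB.of_normal_even hM (generalizedFittingSubgroup G) ?_
    fun x hx hx1 => even_relIndex hO hMat hx hx1
  have hcomm : ∀ u ∈ layer G, ∀ v ∈ fittingSubgroup G, u * v = v * u := by
    intro u hu v hv
    exact mem_centralizer_iff.1
      (SignalizersComponents.LayerBasic.fitting_le_centralizer_layer G hv) u hu
  exact OneB.sup hM (layer G) (fittingSubgroup G) hcomm ((fitting_isPGroup hO).to_le inf_le_right)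
    (oneB_layer hM hone hZ) (OneB.pgroup hM (fitting_isPGroup hO))

/-- one block passes to subnormal subgroups -/
theorem OneB.subnormal {M : Ideal AlgInt} (hM : IsPModular 2 M) (h : OneB M G) {K : Subgroup G}
    (hK : K.IsSubnormal) : OneB M K := by
  induction hK with
  | top => exact OneB.iso (topEquiv (G := G)).symm h
  | step H K h_le hSubn hN ih =>
    have : (H.subgroupOf K).Normal := hN
    exact OneB.iso (subgroupOfEquivOfLe h_le) (OneB.normal hM ih (H.subgroupOf K))

end

/-- **S5007** from S5004 -/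
theorem s5007
    (h5004 : ∀ {G : Type u} [Group G] [Finite G] [IsSimpleGroup G] (_ : ¬ IsMulCommutative G)
      (M : Ideal Cfsg.AlgInt) (_ : Cfsg.IsPModular 2 M)
      (_ : ∀ χ ψ : Cfsg.IrrCharacter G, Cfsg.SameBlock M (χ : G → ℂ) (ψ : G → ℂ)),
      Cfsg.Spor.IsoM22 G ∨ Cfsg.Spor.IsoM24 G)
    {G : Type u} [Group G] [Finite G] (M : Ideal Cfsg.AlgInt) (hM : Cfsg.IsPModular 2 M) :
    (∀ χ ψ : Cfsg.IrrCharacter G, Cfsg.SameBlock M (χ : G → ℂ) (ψ : G → ℂ)) ↔
      (Cfsg.oddCore G = ⊥ ∧ ∀ K : Subgroup G, Cfsg.IsComponent K →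
        Cfsg.Spor.IsoM22 (↥K ⧸ Subgroup.center ↥K) ∨
          Cfsg.Spor.IsoM24 (↥K ⧸ Subgroup.center ↥K)) := by
  have : Fact (Nat.Prime 2) := ⟨Nat.prime_two⟩
  constructor
  · intro h
    have h1 : OneB M G := fun χ => h (triv G) χ
    refine ⟨?_, fun K hK => ?_⟩
    · refine OneB.eq_bot_of_odd hM h1 (oddCore G) ?_
      rw [← Nat.coprime_two_right]
      exact Lib.Cores.pPrimeCore_coprime (G := G) 2
    · have h2 : OneB M K := OneB.subnormal hM h1 hK.1
      have h3 : OneB M (K ⧸ center K) := OneB.surjective hM h2 (QuotientGroup.mk' (center K))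
        (QuotientGroup.mk'_surjective _) (by rw [QuotientGroup.ker_mk'])
      have hs : IsSimpleGroup (K ⧸ center K) := hK.2.2
      refine h5004 ?_ M hM ?_
      · intro hc
        have h4 := center_quot hK.2
        have h5 : center (K ⧸ center K) = ⊤ := by
          rw [eq_top_iff]
          intro x _
          rw [mem_center_iff]
          intro g
          exact hc.is_comm.comm g x
        rw [h4] at h5
        have h6 : Nontrivial (K ⧸ center K) := hs.toNontrivial
        exact bot_ne_top h5
      · intro χ ψ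
        have := Blocks.Local.isPrime_of_isPModular hM
        have h4 : SameBlock M (fun _ : K ⧸ center K => (1 : ℂ)) (χ : K ⧸ center K → ℂ) := h3 χ
        have h5 : SameBlock M (fun _ : K ⧸ center K => (1 : ℂ)) (ψ : K ⧸ center K → ℂ) := h3 ψ
        exact Blocks.Basic.sameBlock_trans (Blocks.Basic.sameBlock_symm h4) h5
  · rintro ⟨h1, h2⟩ χ ψ
    have h3 := oneB_of_components hM h1 h2
    have := Blocks.Local.isPrime_of_isPModular hM
    have h4 : SameBlock M (fun _ : G => (1 : ℂ)) (χ : G → ℂ) := h3 χ
    have h5 : SameBlock M (fun _ : G => (1 : ℂ)) (ψ : G → ℂ) := h3 ψ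
    exact Blocks.Basic.sameBlock_trans (Blocks.Basic.sameBlock_symm h4) h5

end Cfsg.Agent.H657.OneBlk
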